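import Groth.Agent.Sga7.H598.PicPoly
import Mathlib.RingTheory.PicardGroup

set_option autoImplicit false
universe u

/-!
# Invertible modules over a ring with a contraction to a field

`free_of_contraction`: `A` Noetherian seminormal, `B ≅ A[X]` with a ring map `γ : A → B` such that
`ev₁ ∘ γ = id` and `ev₀ ∘ γ` factors through a field.  Then every invertible `A`-module is free.
-/

open Polynomial TensorProduct

namespace K875.PicCone

open Groth.Agent.Sga7.H598.SNDef Groth.Agent.Sga7.H598.PicPoly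

theorem free_of_contraction {A : Type u} [CommRing A] [IsNoetherianRing A] (hA : SN A)
    {B : Type u} [CommRing B] [Algebra A B] (Θ : A[X] ≃+* B)
    (h1 : ∀ a : A, (Θ.symm (algebraMap A B a)).eval 1 = a)
    {k : Type u} [Field k] (ε : A →+* k) (hε : Function.Surjective ε) (ι : k →+* A)
    (h0 : ∀ a : A, (Θ.symm (algebraMap A B a)).coeff 0 = ι (ε a))
    (M : Type u) [AddCommGroup M] [Module A M] [Module.Invertible A M] : Module.Free A M := by
  -- the fibre over the field
  let _ : Algebra A k := ε.toAlgebra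
  obtain ⟨φ⟩ := (Module.Invertible.free_iff_linearEquiv (R := k) (M := k ⊗[A] M)).mp inferInstance
  have hspan : ∀ x : k ⊗[A] M, ∃ m : M, x = 1 ⊗ₜ m := by
    intro x
    induction x using TensorProduct.induction_on with
    | zero => exact ⟨0, (TensorProduct.tmul_zero _ _).symm⟩
    | tmul c m =>
      obtain ⟨a, rfl⟩ := hε c
      refine ⟨a • m, ?_⟩
      rw [← TensorProduct.smul_tmul, Algebra.smul_def, mul_one]
      rfl
    | add x y hx hy =>
      obtain ⟨m, rfl⟩ := hx
      obtain ⟨m', rfl⟩ := hy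
      exact ⟨m + m', (TensorProduct.tmul_add _ _ _).symm⟩
  let lam : M →+ A := ι.toAddMonoidHom.comp (φ.toLinearMap.toAddMonoidHom.comp
    ((TensorProduct.mk A k M 1).toAddMonoidHom))
  have hlam : ∀ (a : A) (m : M), lam (a • m) = ι (ε a) * lam m := by
    intro a m
    change ι (φ (1 ⊗ₜ (a • m))) = ι (ε a) * ι (φ (1 ⊗ₜ m))
    have : (1 : k) ⊗ₜ[A] (a • m) = ε a • ((1 : k) ⊗ₜ[A] m) := by
      rw [← TensorProduct.smul_tmul, TensorProduct.smul_tmul', Algebra.smul_def, mul_one, smul_eq_mul, mul_one]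
      rfl
    rw [this, map_smul, smul_eq_mul, map_mul]
  let ψ : B ⊗[A] M →+ A := TensorProduct.liftAddHom
    (((AddMonoidHom.mul (R := A)).comp ((Polynomial.constantCoeff (R := A)).comp
      Θ.symm.toRingHom).toAddMonoidHom).compl₂ lam) (by
      intro a b m
      change (Θ.symm (a • b)).coeff 0 * lam m = (Θ.symm b).coeff 0 * lam (a • m)
      rw [hlam, Algebra.smul_def, map_mul, mul_coeff_zero, h0]
      ring)
  have hψt : ∀ (b : B) (m : M), ψ (b ⊗ₜ m) = (Θ.symm b).coeff 0 * lam m := fun b m => rfl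
  have hψ : ∀ (b : B) (p : B ⊗[A] M), ψ (b • p) = (Θ.symm b).coeff 0 * ψ p := by
    intro b p
    induction p using TensorProduct.induction_on with
    | zero => simp
    | tmul c m => rw [TensorProduct.smul_tmul', smul_eq_mul, hψt, hψt, map_mul, mul_coeff_zero, mul_assoc]
    | add x y hx hy => rw [smul_add, map_add, map_add, hx, hy, mul_add]
  obtain ⟨m₀, hm₀⟩ := hspan (φ.symm 1)
  have hp₀ : ψ (1 ⊗ₜ m₀) = 1 := by
    rw [hψt, map_one, coeff_one_zero, one_mul]
    change ι (φ (1 ⊗ₜ m₀)) = 1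
    rw [← hm₀, φ.apply_symm_apply, map_one]
  obtain ⟨e, -, he⟩ := exists_generator_of_equiv hA Θ (P := B ⊗[A] M) ψ hψ (1 ⊗ₜ m₀) hp₀
  let E : B ≃ₗ[B] B ⊗[A] M := LinearEquiv.ofBijective (LinearMap.toSpanSingleton B _ e) he
  -- evaluate at 1
  let _ : Algebra B A := ((Polynomial.evalRingHom (1 : A)).comp Θ.symm.toRingHom).toAlgebra
  have ht : IsScalarTower A B A := IsScalarTower.of_algebraMap_eq fun a => (h1 a).symm
  let e1 : A ⊗[B] (B ⊗[A] M) ≃ₗ[A] A ⊗[A] M := TensorProduct.AlgebraTensorModule.cancelBaseChange A B A A M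
  let e2 : A ⊗[B] B ≃ₗ[A] A ⊗[B] (B ⊗[A] M) :=
    TensorProduct.AlgebraTensorModule.congr (LinearEquiv.refl A A) E
  let e3 : A ⊗[B] B ≃ₗ[A] A := TensorProduct.AlgebraTensorModule.rid B A A
  exact Module.Free.of_equiv (e3.symm ≪≫ₗ e2 ≪≫ₗ e1 ≪≫ₗ TensorProduct.lid A M)

/-- A copy of the polynomial ring, carrying no algebra structure. -/
def Tw (A : Type u) [CommRing A] : Type u := A[X]

noncomputable instance (A : Type u) [CommRing A] : CommRing (Tw A) := inferInstanceAs (CommRing A[X])

/-- The identity. -/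
noncomputable def toTw (A : Type u) [CommRing A] : A[X] ≃+* Tw A := RingEquiv.refl _

theorem free_of_contraction' {A : Type u} [CommRing A] [IsNoetherianRing A] (hA : SN A)
    (γ : A →+* A[X]) (h1 : ∀ a : A, (γ a).eval 1 = a)
    {k : Type u} [Field k] (ε : A →+* k) (hε : Function.Surjective ε) (ι : k →+* A)
    (h0 : ∀ a : A, (γ a).coeff 0 = ι (ε a))
    (M : Type u) [AddCommGroup M] [Module A M] [Module.Invertible A M] : Module.Free A M := by
  let _ : Algebra A (Tw A) := ((toTw A).toRingHom.comp γ).toAlgebra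
  exact free_of_contraction hA (toTw A) h1 ε hε ι h0 M

end K875.PicCone
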