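import Groth.Agent.Ega43.FPOfComp
import Mathlib.CategoryTheory.Monoidal.Cartesian.Over
import Mathlib.AlgebraicGeometry.Morphisms.Separated
import Mathlib.AlgebraicGeometry.Morphisms.Affine

set_option autoImplicit false
universe u

/-!
# Coincidence subschemes
-/

open CategoryTheory MonoidalCategory CartesianMonoidalCategory AlgebraicGeometry Limits

namespace K875.Coinc

variable {S : Scheme.{u}}

lemma isPullback_left {A B C D : Over S} {a : A ⟶ B} {b : A ⟶ C} {c : B ⟶ D} {d : C ⟶ D}
    (h : IsPullback a b c d) : IsPullback a.left b.left c.left d.left :=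
  h.map (Over.forget S)

lemma isClosedImmersion_diag (W : Over S) [IsSeparated W.hom] :
    IsClosedImmersion (lift (𝟙 W) (𝟙 W)).left := by
  have h : (lift (𝟙 W) (𝟙 W)).left = pullback.diagonal W.hom := by
    apply pullback.hom_ext
    · rw [pullback.diagonal_fst]
      exact congrArg CommaMorphism.left (lift_fst (𝟙 W) (𝟙 W))
    · rw [pullback.diagonal_snd]
      exact congrArg CommaMorphism.left (lift_snd (𝟙 W) (𝟙 W))
  rw [h]
  infer_instance

lemma locallyOfFinitePresentation_diag (W : Over S) [LocallyOfFiniteType W.hom] :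
    LocallyOfFinitePresentation (lift (𝟙 W) (𝟙 W)).left := by
  have h : (lift (𝟙 W) (𝟙 W)).left ≫ pullback.fst W.hom W.hom = 𝟙 _ :=
    congrArg CommaMorphism.left (lift_fst (𝟙 W) (𝟙 W))
  have : LocallyOfFinitePresentation ((lift (𝟙 W) (𝟙 W)).left ≫ pullback.fst W.hom W.hom) := by
    rw [h]
    infer_instance
  exact Groth.Agent.Ega43.FPOfComp.locallyOfFinitePresentation_of_comp _ (pullback.fst W.hom W.hom)

/-- Coincidence subschemes. -/
theorem exists_eq {P W : Over S} (a b : P ⟶ W) [IsSeparated W.hom] :
    ∃ (Z : Over S) (z : Z ⟶ P), IsClosedImmersion z.left ∧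
      (∀ (T : Over S) (g : T ⟶ P), (∃ t : T ⟶ Z, t ≫ z = g) ↔ g ≫ a = g ≫ b) ∧
      (LocallyOfFiniteType W.hom → LocallyOfFinitePresentation z.left) := by
  have h0 := isClosedImmersion_diag W
  have H1 := isPullback_left (IsPullback.of_hasPullback (lift a b) (lift (𝟙 W) (𝟙 W)))
  refine ⟨pullback (lift a b) (lift (𝟙 W) (𝟙 W)), pullback.fst _ _,
    MorphismProperty.of_isPullback H1.flip inferInstance, fun T g => ?_, fun h => ?_⟩
  · constructor
    · rintro ⟨t, rfl⟩
      have h1 := congrArg (fun f => (t ≫ f) ≫ fst _ _) (pullback.condition (f := lift a b) (g := lift (𝟙 W) (𝟙 W)))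
      have h2 := congrArg (fun f => (t ≫ f) ≫ snd _ _) (pullback.condition (f := lift a b) (g := lift (𝟙 W) (𝟙 W)))
      simp only [Category.assoc, lift_fst, lift_snd, Category.comp_id] at h1 h2
      rw [Category.assoc, Category.assoc, h1, h2]
    · intro h
      refine ⟨pullback.lift g (g ≫ a) ?_, pullback.lift_fst _ _ _⟩
      rw [comp_lift, comp_lift, Category.comp_id, h]
  · have := locallyOfFinitePresentation_diag W
    exact MorphismProperty.of_isPullback H1.flip inferInstance

end K875.Coinc
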