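import Groth.Agent.Sga3.H817.WeilProj
import Mathlib.AlgebraicGeometry.Morphisms.Finite
import Mathlib.AlgebraicGeometry.Morphisms.FinitePresentation
import Mathlib.RingTheory.Finiteness.ModuleFinitePresentation
import Mathlib.RingTheory.Flat.EquationalCriterion

set_option autoImplicit false
universe u

/-!
# Finite locally free morphisms have locally projective coordinate rings
-/

open CategoryTheory AlgebraicGeometry

namespace K875.FinLocProj

theorem locProj {X S : Scheme.{u}} (f : X ⟶ S) [IsFinite f] [Flat f] [LocallyOfFinitePresentation f] :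
    Groth.Agent.Sga3.H817.WeilProj.LocProj f := by
  intro s
  obtain ⟨_, ⟨V, hV, rfl⟩, hsV, -⟩ :=
    S.isBasis_affineOpens.exists_subset_of_mem_open (a := s) (u := Set.univ) trivial isOpen_univ
  have hU : IsAffineOpen (f ⁻¹ᵁ V) := hV.preimage f
  refine ⟨V, hV, hsV, fun x hx => ⟨f ⁻¹ᵁ V, hU, le_rfl, hx, ?_⟩⟩
  have happ : f.appLE V (f ⁻¹ᵁ V) le_rfl = f.app V := f.appLE_eq_app
  let i := (f.appLE V (f ⁻¹ᵁ V) le_rfl).hom.toAlgebra
  have h1 : Module.Finite Γ(S, V) Γ(X, f ⁻¹ᵁ V) := by
    have h := f.finite_app V hV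
    rw [← happ] at h
    exact h
  have h2 : Module.Flat Γ(S, V) Γ(X, f ⁻¹ᵁ V) := f.flat_appLE hV hU le_rfl
  have h3 : Algebra.FinitePresentation Γ(S, V) Γ(X, f ⁻¹ᵁ V) := f.finitePresentation_appLE hV hU le_rfl
  have h4 := Module.FinitePresentation.of_finite_of_finitePresentation Γ(S, V) Γ(X, f ⁻¹ᵁ V)
  exact Module.Flat.projective_of_finitePresentation

end K875.FinLocProj
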