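import Groth.Agent.SprIso.K875.RegMat
import Mathlib.RingTheory.Nakayama

set_option autoImplicit false
universe u

/-!
# Fiberwise regular matrices over a commutative ring

If `g` is an `n × n` matrix over a commutative ring `A` which is regular at every field-valued point,
then the functor of matrices commuting with `g` is represented by an affine space with universal
point `∑ y_k g^k`: there are matrices `S`, `Y` with `E S = 1` and `S E = 1 + Dᵀ Y` where `D` is the
matrix of `X ↦ X g - g X` and `E` the matrix with rows `g^k`.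
-/

namespace K875.RegFam

open Matrix

section basic

variable {A : Type u} [CommRing A] {n : ℕ}

/-- The matrix of `X ↦ X g - g X`. -/
def D (g : Matrix (Fin n) (Fin n) A) : Matrix (Fin n × Fin n) (Fin n × Fin n) A :=
  Matrix.of fun ij kl => (if kl.1 = ij.1 then g kl.2 ij.2 else 0) - (if kl.2 = ij.2 then g ij.1 kl.1 else 0)

/-- The matrix with rows the powers `g ^ k`, `k < n`. -/
def E (g : Matrix (Fin n) (Fin n) A) : Matrix (Fin n) (Fin n × Fin n) A :=
  Matrix.of fun k ij => (g ^ (k : ℕ)) ij.1 ij.2

theorem D_mulVec (g : Matrix (Fin n) (Fin n) A) (X : Matrix (Fin n) (Fin n) A) (ij : Fin n × Fin n) :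
    (D g *ᵥ (fun kl => X kl.1 kl.2)) ij = (X * g - g * X) ij.1 ij.2 := by
  obtain ⟨i, j⟩ := ij
  simp only [Matrix.mulVec, dotProduct, D, Matrix.of_apply, Fintype.sum_prod_type, sub_mul, ite_mul, zero_mul,
    Finset.sum_sub_distrib, Matrix.sub_apply, Matrix.mul_apply]
  congr 1
  · rw [Finset.sum_eq_single i]
    · refine Finset.sum_congr rfl fun l _ => ?_
      rw [if_pos rfl, mul_comm]
    · intro k _ hk
      exact Finset.sum_eq_zero fun l _ => if_neg hk
    · intro h; exact (h (Finset.mem_univ _)).elim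
  · refine Finset.sum_congr rfl fun k _ => ?_
    rw [Finset.sum_eq_single j]
    · rw [if_pos rfl]
    · intro l _ hl
      exact if_neg hl
    · intro h; exact (h (Finset.mem_univ _)).elim

theorem D_map {B : Type*} [CommRing B] (φ : A →+* B) (g : Matrix (Fin n) (Fin n) A) :
    D (g.map φ) = (D g).map φ := by
  ext ij kl
  simp only [D, Matrix.of_apply, Matrix.map_apply, map_sub]
  congr 1 <;> split_ifs <;> simp

theorem E_map {B : Type*} [CommRing B] (φ : A →+* B) (g : Matrix (Fin n) (Fin n) A) :
    E (g.map φ) = (E g).map φ := by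
  ext k ij
  simp only [E, Matrix.of_apply, Matrix.map_apply]
  have : (g.map φ) ^ (k : ℕ) = (g ^ (k : ℕ)).map φ := by
    have := map_pow φ.mapMatrix g (k : ℕ)
    simpa using this.symm
  rw [this, Matrix.map_apply]

theorem E_mul_Dt (g : Matrix (Fin n) (Fin n) A) : E g * (D g)ᵀ = 0 := by
  ext k ij
  have h := D_mulVec g (g ^ (k : ℕ)) ij
  have h2 : (E g * (D g)ᵀ) k ij = (D g *ᵥ (fun kl => (g ^ (k : ℕ)) kl.1 kl.2)) ij := by
    simp only [Matrix.mul_apply, Matrix.mulVec, dotProduct, Matrix.transpose_apply, E, Matrix.of_apply]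
    exact Finset.sum_congr rfl fun _ _ => mul_comm _ _
  rw [h2, h, ← pow_succ, ← pow_succ', sub_self]
  rfl

end basic

section field

variable {K : Type u} [Field K] {n : ℕ}

theorem finrank_ker_D_le (g : Matrix (Fin n) (Fin n) K)
    (h : Module.finrank K (Subalgebra.centralizer K ({g} : Set (Matrix (Fin n) (Fin n) K))) = n) :
    Module.finrank K (LinearMap.ker (D g).mulVecLin) ≤ n := by
  let φ : LinearMap.ker (D g).mulVecLin →ₗ[K]
      (Subalgebra.centralizer K ({g} : Set (Matrix (Fin n) (Fin n) K))) :=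
    { toFun := fun x => ⟨Matrix.of fun i j => (x : Fin n × Fin n → K) (i, j), by
        rw [Subalgebra.mem_centralizer_iff]
        intro g' hg'
        rw [Set.mem_singleton_iff] at hg'
        subst hg'
        have hx : (D g') *ᵥ (x : Fin n × Fin n → K) = 0 := x.2
        ext i j
        have h1 := D_mulVec g' (Matrix.of fun i j => (x : Fin n × Fin n → K) (i, j)) (i, j)
        have h2 : (fun kl : Fin n × Fin n => (Matrix.of fun i j => (x : Fin n × Fin n → K) (i, j)) kl.1 kl.2) =
            (x : Fin n × Fin n → K) := rfl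
        rw [h2, hx, Pi.zero_apply, Matrix.sub_apply] at h1
        exact (sub_eq_zero.mp h1.symm).symm⟩
      map_add' := fun x y => by ext; rfl
      map_smul' := fun c x => by ext; rfl }
  have hφ : Function.Injective φ := by
    intro x y hxy
    have h1 := congrArg Subtype.val hxy
    apply Subtype.ext
    funext ij
    exact congrFun (congrFun h1 ij.1) ij.2
  have := LinearMap.finrank_le_finrank_of_injective hφ
  rwa [h] at this

theorem surjective_E (g : Matrix (Fin n) (Fin n) K)
    (h : Module.finrank K (Subalgebra.centralizer K ({g} : Set (Matrix (Fin n) (Fin n) K))) = n) :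
    Function.Surjective (E g).mulVecLin := by
  have hli := RegMat.linearIndependent_pow g h
  have hrank : (E g).rank = n := by
    rw [← Matrix.rank_transpose]
    have hinj : Function.Injective (E g)ᵀ.mulVecLin := by
      rw [injective_iff_map_eq_zero]
      intro c hc
      rw [Fintype.linearIndependent_iff] at hli
      funext k
      refine hli c ?_ k
      ext i j
      have := congrFun hc (i, j)
      simp only [Matrix.mulVecLin_apply, Matrix.mulVec, dotProduct, Matrix.transpose_apply, E, Matrix.of_apply,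
        Pi.zero_apply] at this
      rw [Matrix.sum_apply, Matrix.zero_apply, ← this]
      exact Finset.sum_congr rfl fun _ _ => by rw [Matrix.smul_apply, smul_eq_mul, mul_comm]
    have := LinearMap.finrank_range_of_inj hinj
    rw [Module.finrank_fin_fun] at this
    exact this
  rw [← LinearMap.range_eq_top]
  apply Submodule.eq_top_of_finrank_eq
  rw [Module.finrank_fin_fun]
  exact hrank

theorem exact_field (g : Matrix (Fin n) (Fin n) K)
    (h : Module.finrank K (Subalgebra.centralizer K ({g} : Set (Matrix (Fin n) (Fin n) K))) = n)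
    (x : Fin n × Fin n → K) (hx : E g *ᵥ x = 0) : ∃ y, (D g)ᵀ *ᵥ y = x := by
  have hle : LinearMap.range (D g)ᵀ.mulVecLin ≤ LinearMap.ker (E g).mulVecLin := by
    rintro _ ⟨y, rfl⟩
    rw [LinearMap.mem_ker, Matrix.mulVecLin_apply, Matrix.mulVecLin_apply, Matrix.mulVec_mulVec, E_mul_Dt,
      Matrix.zero_mulVec]
  have h1 : Module.finrank K (LinearMap.ker (E g).mulVecLin) + n = Fintype.card (Fin n × Fin n) := by
    have := LinearMap.finrank_range_add_finrank_ker (E g).mulVecLin
    rw [LinearMap.range_eq_top.mpr (surjective_E g h), finrank_top, Module.finrank_fin_fun,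
      Module.finrank_fintype_fun_eq_card] at this
    omega
  have h2 : Module.finrank K (LinearMap.range (D g)ᵀ.mulVecLin) +
      Module.finrank K (LinearMap.ker (D g).mulVecLin) = Fintype.card (Fin n × Fin n) := by
    have h3 := LinearMap.finrank_range_add_finrank_ker (D g).mulVecLin
    rw [Module.finrank_fintype_fun_eq_card] at h3
    have h4 : (D g)ᵀ.rank = (D g).rank := Matrix.rank_transpose _
    change Module.finrank K (LinearMap.range (D g)ᵀ.mulVecLin) =
      Module.finrank K (LinearMap.range (D g).mulVecLin) at h4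
    rw [h4, h3]
  have h5 := finrank_ker_D_le g h
  have h6 : LinearMap.range (D g)ᵀ.mulVecLin = LinearMap.ker (E g).mulVecLin := by
    apply Submodule.eq_of_le_of_finrank_le hle
    omega
  have h7 : x ∈ LinearMap.ker (E g).mulVecLin := hx
  rw [← h6] at h7
  obtain ⟨y, hy⟩ := h7
  exact ⟨y, hy⟩

end field

section ring

variable {A : Type u} [CommRing A] {n : ℕ}

/-- A finite module which is divisible by every maximal ideal vanishes. -/
theorem eq_zero_of_forall_maximal {N : Type*} [AddCommGroup N] [Module A N] [Module.Finite A N]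
    (h : ∀ m : Ideal A, m.IsMaximal → ∀ x : N, x ∈ m • (⊤ : Submodule A N)) (x : N) : x = 0 := by
  by_contra hx
  have h1 : Module.annihilator A N ≠ ⊤ := by
    intro ht
    have : (1 : A) ∈ Module.annihilator A N := ht ▸ Submodule.mem_top
    exact hx (by simpa using (Module.mem_annihilator.mp this x))
  obtain ⟨m, hm, hle⟩ := Ideal.exists_le_maximal _ h1
  obtain ⟨r, hr1, hr2⟩ := Submodule.exists_sub_one_mem_and_smul_eq_zero_of_fg_of_le_smul m
    (⊤ : Submodule A N) Module.Finite.fg_top (fun y _ => h m hm y)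
  have hr3 : r ∈ m := hle (Module.mem_annihilator.mpr fun y => hr2 y Submodule.mem_top)
  exact hm.ne_top ((Ideal.eq_top_iff_one m).mpr (by
    have := m.sub_mem hr3 hr1
    simpa using this))

/-- The hypothesis: `g` is regular at every field-valued point. -/
def IsFibReg (g : Matrix (Fin n) (Fin n) A) : Prop :=
  ∀ (K : Type u) [Field K] (φ : A →+* K),
    Module.finrank K (Subalgebra.centralizer K ({g.map φ} : Set (Matrix (Fin n) (Fin n) K))) = n

theorem IsFibReg.map {g : Matrix (Fin n) (Fin n) A} (hg : IsFibReg g) {B : Type u} [CommRing B]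
    (φ : A →+* B) : IsFibReg (g.map φ) := by
  intro K _ ψ
  have := hg K (ψ.comp φ)
  rwa [RingHom.coe_comp, ← Matrix.map_map] at this

theorem sum_smul_single {ι : Type*} [Fintype ι] [DecidableEq ι] (x : ι → A) :
    x = ∑ i, x i • (Pi.single i 1 : ι → A) := by
  funext j
  rw [Finset.sum_apply, Finset.sum_eq_single j]
  · simp
  · intro i _ hi
    simp [Pi.single_eq_of_ne hi.symm]
  · intro h; exact (h (Finset.mem_univ _)).elim

theorem surjective_E_ring (g : Matrix (Fin n) (Fin n) A) (hg : IsFibReg g) :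
    Function.Surjective (E g).mulVecLin := by
  rw [← LinearMap.range_eq_top]
  rw [← Submodule.Quotient.subsingleton_iff]
  refine ⟨fun a b => ?_⟩
  have hz : ∀ x : ((Fin n → A) ⧸ LinearMap.range (E g).mulVecLin), x = 0 := by
    refine eq_zero_of_forall_maximal (A := A) fun m hm x => ?_
    obtain ⟨z, rfl⟩ := Submodule.Quotient.mk_surjective _ x
    letI := Ideal.Quotient.field m
    obtain ⟨x', hx'⟩ := surjective_E (g.map (Ideal.Quotient.mk m)) (hg _ _)
      (fun i => Ideal.Quotient.mk m (z i))
    choose y hy using fun i => Ideal.Quotient.mk_surjective (x' i)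
    have h1 : ∀ i, z i - ((E g) *ᵥ y) i ∈ m := by
      intro i
      rw [← Ideal.Quotient.eq]
      have h2 := congrFun hx' i
      rw [Matrix.mulVecLin_apply, E_map] at h2
      rw [← h2]
      have h3 : x' = fun i => Ideal.Quotient.mk m (y i) := funext fun i => (hy i).symm
      rw [h3]
      simp only [Matrix.mulVec, dotProduct, Matrix.map_apply, map_sum, map_mul]
    have h4 : (Submodule.Quotient.mk z : (Fin n → A) ⧸ LinearMap.range (E g).mulVecLin) =
        Submodule.Quotient.mk (z - (E g) *ᵥ y) := by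
      rw [Submodule.Quotient.eq]
      refine ⟨y, ?_⟩
      rw [Matrix.mulVecLin_apply]
      abel
    rw [h4, sum_smul_single (z - (E g) *ᵥ y)]
    have h5 : (Submodule.Quotient.mk (∑ i, (z - (E g) *ᵥ y) i • (Pi.single i 1 : Fin n → A)) :
        (Fin n → A) ⧸ LinearMap.range (E g).mulVecLin) =
        ∑ i, (z - (E g) *ᵥ y) i • Submodule.Quotient.mk (Pi.single i 1 : Fin n → A) := by
      rw [← Submodule.mkQ_apply, map_sum]
      rfl
    rw [h5]
    exact Submodule.sum_mem _ fun i _ => Submodule.smul_mem_smul (h1 i) Submodule.mem_top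
  rw [hz a, hz b]

theorem exists_S (g : Matrix (Fin n) (Fin n) A) (hg : IsFibReg g) :
    ∃ S : Matrix (Fin n × Fin n) (Fin n) A, E g * S = 1 := by
  choose s hs using fun k : Fin n => surjective_E_ring g hg (Pi.single k 1)
  refine ⟨Matrix.of fun ij k => s k ij, ?_⟩
  ext i k
  have := congrFun (hs k) i
  rw [Matrix.mulVecLin_apply] at this
  rw [Matrix.mul_apply]
  simp only [Matrix.mulVec, dotProduct] at this
  simp only [Matrix.of_apply]
  rw [this, Matrix.one_apply, Pi.single_apply]

theorem exact_ring (g : Matrix (Fin n) (Fin n) A) (hg : IsFibReg g)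
    (x : Fin n × Fin n → A) (hx : E g *ᵥ x = 0) : ∃ y, (D g)ᵀ *ᵥ y = x := by
  obtain ⟨S, hS⟩ := exists_S g hg
  set P0 := LinearMap.ker (E g).mulVecLin with hP0
  have hproj : ∀ w, E g *ᵥ (w - S *ᵥ (E g *ᵥ w)) = 0 := by
    intro w
    rw [Matrix.mulVec_sub, Matrix.mulVec_mulVec, hS, Matrix.one_mulVec, sub_self]
  let π : (Fin n × Fin n → A) →ₗ[A] P0 :=
    LinearMap.codRestrict P0 (LinearMap.id - S.mulVecLin ∘ₗ (E g).mulVecLin) (fun w => hproj w)
  have hπ : ∀ w : P0, π (w : Fin n × Fin n → A) = w := by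
    intro w
    apply Subtype.ext
    have hw : E g *ᵥ (w : Fin n × Fin n → A) = 0 := w.2
    change (w : Fin n × Fin n → A) - S *ᵥ (E g *ᵥ (w : Fin n × Fin n → A)) = w
    rw [hw, Matrix.mulVec_zero, sub_zero]
  haveI : Module.Finite A P0 := Module.Finite.of_surjective π fun w => ⟨_, hπ w⟩
  set R0 : Submodule A P0 := Submodule.comap P0.subtype (LinearMap.range (D g)ᵀ.mulVecLin) with hR0
  have hz : ∀ z : P0 ⧸ R0, z = 0 := by
    refine eq_zero_of_forall_maximal (A := A) fun m hm z => ?_
    obtain ⟨z, rfl⟩ := Submodule.Quotient.mk_surjective _ z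
    letI := Ideal.Quotient.field m
    have hzE : E g *ᵥ (z : Fin n × Fin n → A) = 0 := z.2
    obtain ⟨y', hy'⟩ := exact_field (g.map (Ideal.Quotient.mk m)) (hg _ _)
      (fun i => Ideal.Quotient.mk m ((z : Fin n × Fin n → A) i)) (by
        rw [E_map]
        funext i
        have := congrArg (Ideal.Quotient.mk m) (congrFun hzE i)
        rw [Pi.zero_apply, map_zero] at this
        rw [Pi.zero_apply, ← this]
        simp only [Matrix.mulVec, dotProduct, Matrix.map_apply, map_sum, map_mul])
    choose y hy using fun i => Ideal.Quotient.mk_surjective (y' i)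
    have h1 : ∀ i, (z : Fin n × Fin n → A) i - ((D g)ᵀ *ᵥ y) i ∈ m := by
      intro i
      rw [← Ideal.Quotient.eq]
      have h2 := congrFun hy' i
      rw [D_map] at h2
      rw [← h2]
      have h3 : y' = fun i => Ideal.Quotient.mk m (y i) := funext fun i => (hy i).symm
      rw [h3]
      simp only [Matrix.mulVec, dotProduct, Matrix.map_apply, map_sum, map_mul, Matrix.transpose_apply]
    have hDy : (D g)ᵀ *ᵥ y ∈ P0 := by
      rw [hP0, LinearMap.mem_ker, Matrix.mulVecLin_apply, Matrix.mulVec_mulVec, E_mul_Dt, Matrix.zero_mulVec]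
    let w : P0 := z - ⟨(D g)ᵀ *ᵥ y, hDy⟩
    have h4 : (Submodule.Quotient.mk z : P0 ⧸ R0) = Submodule.Quotient.mk w := by
      rw [Submodule.Quotient.eq]
      refine ⟨y, ?_⟩
      change (D g)ᵀ *ᵥ y = (z : Fin n × Fin n → A) - ((z : Fin n × Fin n → A) - (D g)ᵀ *ᵥ y)
      abel
    have h5 : w = ∑ i, (w : Fin n × Fin n → A) i • π (Pi.single i 1) := by
      conv_lhs => rw [← hπ w, sum_smul_single (w : Fin n × Fin n → A)]
      rw [map_sum]
      exact Finset.sum_congr rfl fun i _ => map_smul π _ _
    rw [h4, h5]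
    have h6 : (Submodule.Quotient.mk (∑ i, (w : Fin n × Fin n → A) i • π (Pi.single i 1)) : P0 ⧸ R0) =
        ∑ i, (w : Fin n × Fin n → A) i • Submodule.Quotient.mk (π (Pi.single i 1)) := by
      rw [← Submodule.mkQ_apply, map_sum]
      rfl
    rw [h6]
    exact Submodule.sum_mem _ fun i _ => Submodule.smul_mem_smul (h1 i) Submodule.mem_top
  have h := hz (Submodule.Quotient.mk ⟨x, hx⟩)
  rw [Submodule.Quotient.mk_eq_zero] at h
  obtain ⟨y, hy⟩ := h
  exact ⟨y, hy⟩

/-- **The commutant of a fiberwise regular matrix**, in matrix form. -/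
theorem exists_S_Y (g : Matrix (Fin n) (Fin n) A) (hg : IsFibReg g) :
    ∃ (S : Matrix (Fin n × Fin n) (Fin n) A) (Y : Matrix (Fin n × Fin n) (Fin n × Fin n) A),
      E g * S = 1 ∧ S * E g = 1 + (D g)ᵀ * Y := by
  obtain ⟨S, hS⟩ := exists_S g hg
  have hcol : ∀ ij : Fin n × Fin n, ∃ y, (D g)ᵀ *ᵥ y = (S * E g - 1) *ᵥ (Pi.single ij 1) := by
    intro ij
    apply exact_ring g hg
    rw [Matrix.mulVec_mulVec, Matrix.mul_sub, ← Matrix.mul_assoc, hS, Matrix.one_mul, Matrix.mul_one,
      sub_self, Matrix.zero_mulVec]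
  choose y hy using hcol
  refine ⟨S, Matrix.of fun ij kl => y kl ij, hS, ?_⟩
  rw [← sub_eq_iff_eq_add']
  ext ij kl
  have := congrFun (hy kl) ij
  rw [Matrix.mulVec_single_one] at this
  exact this.symm

/-- **The commutant of a fiberwise regular matrix** consists of the polynomials in the matrix. -/
theorem exists_coeff (g : Matrix (Fin n) (Fin n) A) (hg : IsFibReg g) (X : Matrix (Fin n) (Fin n) A)
    (hX : X * g = g * X) : ∃ c : Fin n → A, X = ∑ k, c k • g ^ (k : ℕ) := by
  obtain ⟨S, Y, h1, h2⟩ := exists_S_Y g hg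
  have h3 : (E g)ᵀ * Sᵀ = 1 + Yᵀ * D g := by
    have := congrArg Matrix.transpose h2
    rwa [Matrix.transpose_mul, Matrix.transpose_add, Matrix.transpose_one, Matrix.transpose_mul,
      Matrix.transpose_transpose] at this
  set x : Fin n × Fin n → A := fun kl => X kl.1 kl.2 with hx
  have h4 : D g *ᵥ x = 0 := by
    funext ij
    rw [hx, D_mulVec, hX, sub_self]
    rfl
  have h5 : (E g)ᵀ *ᵥ (Sᵀ *ᵥ x) = x := by
    rw [Matrix.mulVec_mulVec, h3, Matrix.add_mulVec, Matrix.one_mulVec, ← Matrix.mulVec_mulVec, h4,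
      Matrix.mulVec_zero, add_zero]
  refine ⟨Sᵀ *ᵥ x, ?_⟩
  ext i j
  have h6 := congrFun h5 (i, j)
  change _ = X i j at h6
  rw [← h6, Matrix.sum_apply]
  conv_lhs => rw [Matrix.mulVec, dotProduct]
  exact Finset.sum_congr rfl fun k _ => by
    rw [Matrix.smul_apply, smul_eq_mul, mul_comm]; rfl

theorem commute_of_commute (g : Matrix (Fin n) (Fin n) A) (hg : IsFibReg g)
    (X Y : Matrix (Fin n) (Fin n) A) (hX : X * g = g * X) (hY : Y * g = g * Y) : X * Y = Y * X := by
  obtain ⟨c, rfl⟩ := exists_coeff g hg X hX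
  have : Commute g Y := hY.symm
  have h2 : Commute (∑ k : Fin n, c k • g ^ (k : ℕ)) Y :=
    Commute.sum_left _ _ _ fun k _ => (this.pow_left _).smul_left _
  exact h2.eq

end ring

end K875.RegFam
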