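import Mathlib.Algebra.Module.PID
import Mathlib.Algebra.Polynomial.Module.AEval
import Mathlib.FieldTheory.Minpoly.Field
import Mathlib.LinearAlgebra.FreeModule.PID
import Mathlib.LinearAlgebra.Matrix.ToLin
import Mathlib.LinearAlgebra.Matrix.Rank
import Mathlib.LinearAlgebra.Matrix.Charpoly.Coeff
import Mathlib.LinearAlgebra.Charpoly.Basic
import Mathlib.RingTheory.PowerBasis
import Mathlib.LinearAlgebra.Matrix.Charpoly.Minpoly
import Mathlib.Algebra.Polynomial.Inductions

set_option autoImplicit false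
universe u

/-!
# Regular (non-derogatory) matrices over a field

If the commutant of an `n × n` matrix `g` over a field has dimension `n`, then
`1, g, …, g^(n-1)` are linearly independent.
-/

namespace K875.RegMat

open Polynomial Matrix

variable {K : Type u} [Field K] {n : ℕ}

/-- There is a vector whose annihilator is the annihilator of the whole space. -/
theorem exists_vector (g : Matrix (Fin n) (Fin n) K) :
    ∃ v : Fin n → K, ∀ p : K[X], (aeval g p) *ᵥ v = 0 → aeval g p = 0 := by
  let f : Module.End K (Fin n → K) := Matrix.toLinAlgEquiv' g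
  obtain ⟨x, hx⟩ := Module.exists_ker_toSpanSingleton_eq_annihilator K[X] (Module.AEval' f)
  obtain ⟨v, rfl⟩ := (Module.AEval'.of f).surjective x
  refine ⟨v, fun p hp => ?_⟩
  have hf : aeval f p = Matrix.toLinAlgEquiv' (aeval g p) := by
    rw [← Polynomial.aeval_algHom_apply]
  have hof : ∀ w : Fin n → K, p • Module.AEval'.of f w = Module.AEval'.of f (aeval f p w) :=
    fun w => (Module.AEval.of_aeval_smul (R := K) (a := f) p w).symm
  have h1 : p ∈ LinearMap.ker (LinearMap.toSpanSingleton K[X] _ (Module.AEval'.of f v)) := by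
    rw [LinearMap.mem_ker, LinearMap.toSpanSingleton_apply]
    rw [hof, hf, Matrix.toLinAlgEquiv'_apply, hp, map_zero]
  rw [hx, Module.mem_annihilator] at h1
  apply Matrix.toLinAlgEquiv'.injective
  rw [map_zero]
  refine LinearMap.ext fun w => ?_
  have h2 := h1 (Module.AEval'.of f w)
  rw [hof, hf] at h2
  exact (Module.AEval'.of f).map_eq_zero_iff.mp h2

/-- A functional picking out the top coefficient (in degree `d - 1`, `d` the degree of the minimal
polynomial) on the cyclic subspace generated by a vector with faithful annihilator. -/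
theorem exists_functional (g : Matrix (Fin n) (Fin n) K) (v : Fin n → K)
    (hv : ∀ p : K[X], (aeval g p) *ᵥ v = 0 → aeval g p = 0) (hd : 0 < (minpoly K g).natDegree) :
    ∃ l : (Fin n → K) →ₗ[K] K, ∀ p : K[X], p.natDegree < (minpoly K g).natDegree →
      l ((aeval g p) *ᵥ v) = p.coeff ((minpoly K g).natDegree - 1) := by
  set d := (minpoly K g).natDegree with hd'
  let φ : Polynomial.degreeLT K d →ₗ[K] (Fin n → K) :=
    { toFun := fun p => (aeval g (p : K[X])) *ᵥ v
      map_add' := fun p q => by
        rw [Submodule.coe_add, map_add, Matrix.add_mulVec]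
      map_smul' := fun c p => by
        rw [Submodule.coe_smul, map_smul, Matrix.smul_mulVec, RingHom.id_apply] }
  have hφ : Function.Injective φ := by
    rw [injective_iff_map_eq_zero]
    rintro ⟨p, hp⟩ h
    have h1 : aeval g p = 0 := hv p h
    have h2 : minpoly K g ∣ p := minpoly.dvd K g h1
    have h3 : p.degree < (minpoly K g).degree := by
      rw [Polynomial.degree_eq_natDegree (minpoly.ne_zero (Matrix.isIntegral g))]
      exact Polynomial.mem_degreeLT.mp hp
    exact Subtype.ext (Polynomial.eq_zero_of_dvd_of_degree_lt h2 h3)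
  obtain ⟨ψ, hψ⟩ := φ.exists_leftInverse_of_injective (LinearMap.ker_eq_bot.mpr hφ)
  refine ⟨(Polynomial.lcoeff K (d - 1)) ∘ₗ (Polynomial.degreeLT K d).subtype ∘ₗ ψ, fun p hp => ?_⟩
  have hp' : p ∈ Polynomial.degreeLT K d := by
    rw [Polynomial.mem_degreeLT]
    exact Polynomial.degree_le_natDegree.trans_lt (by exact_mod_cast hp)
  have h1 : ψ (φ ⟨p, hp'⟩) = ⟨p, hp'⟩ := LinearMap.congr_fun hψ _
  have h2 : φ ⟨p, hp'⟩ = (aeval g p) *ᵥ v := rfl
  rw [h2] at h1
  rw [LinearMap.comp_apply, LinearMap.comp_apply, h1]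
  rfl

theorem coeff_iterate_divX (p : K[X]) (m j : ℕ) : ((divX^[m]) p).coeff j = p.coeff (j + m) := by
  induction m generalizing j with
  | zero => rfl
  | succ m ih =>
    rw [Function.iterate_succ_apply', Polynomial.coeff_divX, ih]
    congr 1
    omega

/-- The operator of the commutant attached to a vector. -/
noncomputable def T (g : Matrix (Fin n) (Fin n) K) (l : (Fin n → K) →ₗ[K] K) (w : Fin n → K) :
    (Fin n → K) →ₗ[K] (Fin n → K) :=
  ∑ i ∈ Finset.range (minpoly K g).natDegree,
    (l ∘ₗ (aeval g ((divX^[i + 1]) (minpoly K g))).mulVecLin).smulRight ((g ^ i) *ᵥ w)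

theorem T_apply (g : Matrix (Fin n) (Fin n) K) (l : (Fin n → K) →ₗ[K] K) (w x : Fin n → K) :
    T g l w x = ∑ i ∈ Finset.range (minpoly K g).natDegree,
      l ((aeval g ((divX^[i + 1]) (minpoly K g))) *ᵥ x) • ((g ^ i) *ᵥ w) := by
  rw [T, LinearMap.sum_apply]
  rfl

theorem T_self (g : Matrix (Fin n) (Fin n) K) (v : Fin n → K) (hd : 0 < (minpoly K g).natDegree)
    (l : (Fin n → K) →ₗ[K] K) (hl : ∀ p : K[X], p.natDegree < (minpoly K g).natDegree →
      l ((aeval g p) *ᵥ v) = p.coeff ((minpoly K g).natDegree - 1)) (w : Fin n → K) :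
    T g l w v = w := by
  rw [T_apply]
  set μ := minpoly K g with hμ
  set d := μ.natDegree with hd'
  have hmonic : μ.Monic := minpoly.monic (Matrix.isIntegral g)
  rw [Finset.sum_eq_single 0]
  · rw [hl _ ?_, coeff_iterate_divX, pow_zero, Matrix.one_mulVec]
    · rw [show d - 1 + (0 + 1) = d by omega, hd', hmonic.coeff_natDegree, one_smul]
    · have : (divX^[0 + 1] μ).natDegree ≤ d - 1 := by
        rw [Polynomial.natDegree_le_iff_coeff_eq_zero]
        intro N hN
        rw [coeff_iterate_divX]
        exact Polynomial.coeff_eq_zero_of_natDegree_lt (by omega)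
      omega
  · intro i _ hi
    rw [hl _ ?_, coeff_iterate_divX, Polynomial.coeff_eq_zero_of_natDegree_lt (by omega), zero_smul]
    have : (divX^[i + 1] μ).natDegree ≤ d - 1 := by
      rw [Polynomial.natDegree_le_iff_coeff_eq_zero]
      intro N hN
      rw [coeff_iterate_divX]
      exact Polynomial.coeff_eq_zero_of_natDegree_lt (by omega)
    omega
  · intro h
    exact (h (Finset.mem_range.mpr hd)).elim

theorem T_comm (g : Matrix (Fin n) (Fin n) K)
    (l : (Fin n → K) →ₗ[K] K) (w x : Fin n → K) :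
    T g l w (g *ᵥ x) = g *ᵥ (T g l w x) := by
  rw [T_apply, T_apply]
  set μ := minpoly K g with hμ
  set d := μ.natDegree with hd'
  have hmonic : μ.Monic := minpoly.monic (Matrix.isIntegral g)
  -- the coefficients
  set c : ℕ → K := fun m => l ((aeval g ((divX^[m]) μ)) *ᵥ x) with hc
  have hc0 : c 0 = 0 := by
    simp only [hc, Function.iterate_zero, id_eq, hμ, minpoly.aeval, Matrix.zero_mulVec, map_zero]
  have hcd : c d = l x := by
    have : (divX^[d]) μ = 1 := by
      ext j
      rw [coeff_iterate_divX, Polynomial.coeff_one]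
      rcases Nat.eq_zero_or_pos j with h | h
      · rw [h, zero_add, if_pos rfl, hd', hmonic.coeff_natDegree]
      · rw [if_neg (by omega), Polynomial.coeff_eq_zero_of_natDegree_lt (by omega)]
    simp only [hc, this, map_one, Matrix.one_mulVec]
  have hstep : ∀ m : ℕ, l ((aeval g ((divX^[m + 1]) μ)) *ᵥ (g *ᵥ x)) = c m - μ.coeff m * l x := by
    intro m
    have h1 : (divX^[m + 1]) μ * X + C (μ.coeff m) = (divX^[m]) μ := by
      have := Polynomial.divX_mul_X_add ((divX^[m]) μ)
      rw [coeff_iterate_divX, zero_add] at this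
      rw [Function.iterate_succ_apply']
      exact this
    have h2 : aeval g ((divX^[m]) μ) = aeval g ((divX^[m + 1]) μ) * g + μ.coeff m • 1 := by
      rw [← h1, map_add, map_mul, aeval_X, aeval_C, Algebra.algebraMap_eq_smul_one]
    simp only [hc]
    rw [h2, Matrix.add_mulVec, map_add, Matrix.smul_mulVec, Matrix.one_mulVec, map_smul,
      smul_eq_mul, add_sub_cancel_right, Matrix.mulVec_mulVec]
  simp_rw [hstep]
  have hR : g *ᵥ (∑ i ∈ Finset.range d, c (i + 1) • ((g ^ i) *ᵥ w)) =
      ∑ i ∈ Finset.range d, c (i + 1) • ((g ^ (i + 1)) *ᵥ w) := by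
    rw [Matrix.mulVec_sum]
    refine Finset.sum_congr rfl fun i _ => ?_
    rw [Matrix.mulVec_smul, Matrix.mulVec_mulVec, pow_succ']
  change _ = g *ᵥ (∑ i ∈ Finset.range d, c (i + 1) • ((g ^ i) *ᵥ w))
  rw [hR]
  have htel : ∑ i ∈ Finset.range d, (c (i + 1) • ((g ^ (i + 1)) *ᵥ w) - c i • ((g ^ i) *ᵥ w)) =
      c d • ((g ^ d) *ᵥ w) - c 0 • ((g ^ 0) *ᵥ w) :=
    Finset.sum_range_sub (fun i => c i • ((g ^ i) *ᵥ w)) d
  rw [Finset.sum_sub_distrib, hc0, zero_smul, sub_zero, hcd] at htel
  have hmu : ∑ i ∈ Finset.range (d + 1), μ.coeff i • ((g ^ i) *ᵥ w) = 0 := by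
    have h1 : aeval g μ = 0 := minpoly.aeval K g
    rw [Polynomial.aeval_eq_sum_range] at h1
    have h2 := congrArg (fun M : Matrix (Fin n) (Fin n) K => M *ᵥ w) h1
    simp only [Matrix.zero_mulVec, Matrix.sum_mulVec, Matrix.smul_mulVec] at h2
    exact h2
  rw [Finset.sum_range_succ, hd', hmonic.coeff_natDegree, one_smul] at hmu
  simp_rw [sub_smul]
  rw [Finset.sum_sub_distrib]
  have h3 : ∑ i ∈ Finset.range d, (μ.coeff i * l x) • ((g ^ i) *ᵥ w) = - (l x • ((g ^ d) *ᵥ w)) := by
    have : ∑ i ∈ Finset.range d, (μ.coeff i * l x) • ((g ^ i) *ᵥ w) =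
        l x • ∑ i ∈ Finset.range d, μ.coeff i • ((g ^ i) *ᵥ w) := by
      rw [Finset.smul_sum]
      refine Finset.sum_congr rfl fun i _ => ?_
      rw [smul_smul, mul_comm]
    rw [this, eq_neg_of_add_eq_zero_left hmu, smul_neg]
  rw [h3, sub_neg_eq_add, ← htel]
  abel

/-- **Regular matrices**: if the commutant of `g` has dimension `n` then the minimal polynomial
of `g` has degree at least `n`. -/
theorem le_natDegree_minpoly (g : Matrix (Fin n) (Fin n) K)
    (h : Module.finrank K (Subalgebra.centralizer K ({g} : Set (Matrix (Fin n) (Fin n) K))) = n) :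
    n ≤ (minpoly K g).natDegree := by
  rcases Nat.eq_zero_or_pos n with hn | hn
  · omega
  haveI : Nonempty (Fin n) := ⟨⟨0, hn⟩⟩
  have hd : 0 < (minpoly K g).natDegree := minpoly.natDegree_pos (Matrix.isIntegral g)
  obtain ⟨v, hv⟩ := exists_vector g
  obtain ⟨l, hl⟩ := exists_functional g v hv hd
  -- the evaluation at `v`
  let ev : (Subalgebra.centralizer K ({g} : Set (Matrix (Fin n) (Fin n) K))) →ₗ[K] (Fin n → K) :=
    { toFun := fun M => (M : Matrix (Fin n) (Fin n) K) *ᵥ v
      map_add' := fun M N => by rw [Subalgebra.coe_add, Matrix.add_mulVec]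
      map_smul' := fun c M => by rw [Subalgebra.coe_smul, Matrix.smul_mulVec, RingHom.id_apply] }
  have hT : ∀ w, LinearMap.toMatrix' (T g l w) ∈
      Subalgebra.centralizer K ({g} : Set (Matrix (Fin n) (Fin n) K)) := by
    intro w
    rw [Subalgebra.mem_centralizer_iff]
    intro g' hg'
    rw [Set.mem_singleton_iff] at hg'
    subst hg'
    apply Matrix.toLin'.injective
    rw [Matrix.toLin'_mul, Matrix.toLin'_mul, Matrix.toLin'_toMatrix']
    refine LinearMap.ext fun x => ?_
    rw [LinearMap.comp_apply, LinearMap.comp_apply, Matrix.toLin'_apply, Matrix.toLin'_apply, T_comm]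
  have hsurj : Function.Surjective ev := by
    intro w
    refine ⟨⟨_, hT w⟩, ?_⟩
    change (LinearMap.toMatrix' (T g l w)) *ᵥ v = w
    rw [LinearMap.toMatrix'_mulVec, T_self g v hd l hl]
  have hinj : Function.Injective ev := by
    rw [LinearMap.injective_iff_surjective_of_finrank_eq_finrank]
    · exact hsurj
    · rw [h, Module.finrank_fin_fun]
  have hTv : (⟨_, hT v⟩ : Subalgebra.centralizer K ({g} : Set (Matrix (Fin n) (Fin n) K))) = 1 := by
    apply hinj
    change (LinearMap.toMatrix' (T g l v)) *ᵥ v = (1 : Matrix (Fin n) (Fin n) K) *ᵥ v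
    rw [LinearMap.toMatrix'_mulVec, T_self g v hd l hl, Matrix.one_mulVec]
  have hTv' : ∀ x, T g l v x = x := by
    intro x
    have h1 : LinearMap.toMatrix' (T g l v) = 1 := congrArg Subtype.val hTv
    have h2 : T g l v = LinearMap.id := by
      apply LinearMap.toMatrix'.injective
      rw [h1, LinearMap.toMatrix'_id]
    rw [h2, LinearMap.id_apply]
  have hspan : Submodule.span K (Set.range fun i : Fin (minpoly K g).natDegree =>
      (g ^ (i : ℕ)) *ᵥ v) = ⊤ := by
    rw [eq_top_iff]
    intro x _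
    rw [← hTv' x, T_apply]
    refine Submodule.sum_mem _ fun i hi => Submodule.smul_mem _ _ (Submodule.subset_span ?_)
    exact ⟨⟨i, Finset.mem_range.mp hi⟩, rfl⟩
  have h1 := finrank_range_le_card (R := K) (fun i : Fin (minpoly K g).natDegree => (g ^ (i : ℕ)) *ᵥ v)
  rw [Set.finrank, hspan, finrank_top, Module.finrank_fin_fun, Fintype.card_fin] at h1
  exact h1

/-- **Regular matrices**: if the commutant of `g` has dimension `n` then `1, g, …, g^(n-1)` are
linearly independent. -/
theorem linearIndependent_pow (g : Matrix (Fin n) (Fin n) K)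
    (h : Module.finrank K (Subalgebra.centralizer K ({g} : Set (Matrix (Fin n) (Fin n) K))) = n) :
    LinearIndependent K (fun k : Fin n => g ^ (k : ℕ)) := by
  have h1 := _root_.linearIndependent_pow (K := K) g
  have h2 := h1.comp (Fin.castLE (le_natDegree_minpoly g h)) (Fin.castLE_injective _)
  exact h2

end K875.RegMat
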